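import Cfsg.Agent.Lib.Cert.J3f.Q

set_option autoImplicit false
set_option maxRecDepth 100000

namespace Cfsg.Agent.Ct.J3f

open Cfsg.Agent.PC

theorem d24000 : Nat.beq (rng f3 (nat_lit 24000) (nat_lit 2162)) (nat_lit 0) = true := by decide +kernel

end Cfsg.Agent.Ct.J3f
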