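import Cfsg.Agent.Lib.Cert.J3f.D0
import Cfsg.Agent.Lib.Cert.J3f.D1

set_option autoImplicit false
set_option maxRecDepth 100000

namespace Cfsg.Agent.Ct.J3f

open Cfsg.Agent.PC

open Cfsg.Agent.Fi Cfsg.Agent.Ct
theorem h3 : ∀ i < 26162, f3 i = 0 := by
  have h := zero_lt_zero f3
  have h := zero_lt_add (a := (nat_lit 0)) (n := (nat_lit 3000)) (b := (nat_lit 3000)) h d0 rfl
  have h := zero_lt_add (a := (nat_lit 3000)) (n := (nat_lit 3000)) (b := (nat_lit 6000)) h d3000 rfl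
  have h := zero_lt_add (a := (nat_lit 6000)) (n := (nat_lit 3000)) (b := (nat_lit 9000)) h d6000 rfl
  have h := zero_lt_add (a := (nat_lit 9000)) (n := (nat_lit 3000)) (b := (nat_lit 12000)) h d9000 rfl
  have h := zero_lt_add (a := (nat_lit 12000)) (n := (nat_lit 3000)) (b := (nat_lit 15000)) h d12000 rfl
  have h := zero_lt_add (a := (nat_lit 15000)) (n := (nat_lit 3000)) (b := (nat_lit 18000)) h d15000 rfl
  have h := zero_lt_add (a := (nat_lit 18000)) (n := (nat_lit 3000)) (b := (nat_lit 21000)) h d18000 rfl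
  have h := zero_lt_add (a := (nat_lit 21000)) (n := (nat_lit 3000)) (b := (nat_lit 24000)) h d21000 rfl
  have h := zero_lt_add (a := (nat_lit 24000)) (n := (nat_lit 2162)) (b := (nat_lit 26162)) h d24000 rfl
  exact h
theorem loc : Loc q 5 7 8 R := md.loc sy (by decide) (ps := 32) (pr := 128) ⟨rfl, rfl⟩ h2 (U := U)
  (upTo_beq (by decide +kernel)) (l := [([nat_lit 5, nat_lit 7, nat_lit 0], (nat_lit 3)), ([nat_lit 6, nat_lit 7], (nat_lit 5))]) (by decide +kernel) ⟨by decide, by decide⟩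
  (md.cls (by decide +kernel) h3 fun _ _ => trivial) (by rw [J3.card]; decide)
def cH_t : TL := (TL.node (TL.node (TL.leaf []) (TL.leaf [nat_lit 5, nat_lit 7])) (TL.node (TL.leaf [nat_lit 6, nat_lit 7, nat_lit 6]) (TL.leaf [nat_lit 7])))
noncomputable def cH (i : ℕ) : List ℕ := TL.get cH_t i
def cI_t : TL := (TL.node (TL.node (TL.leaf []) (TL.leaf [nat_lit 7, nat_lit 7, nat_lit 7, nat_lit 5, nat_lit 5, nat_lit 5])) (TL.node (TL.leaf [nat_lit 6, nat_lit 6, nat_lit 6, nat_lit 6, nat_lit 6, nat_lit 6, nat_lit 6, nat_lit 7, nat_lit 7, nat_lit 7, nat_lit 6, nat_lit 6, nat_lit 6, nat_lit 6, nat_lit 6, nat_lit 6, nat_lit 6]) (TL.leaf [nat_lit 7, nat_lit 7, nat_lit 7])))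
noncomputable def cI (i : ℕ) : List ℕ := TL.get cI_t i
def cW_t : TL := (TL.node (TL.node (TL.leaf []) (TL.leaf [nat_lit 5, nat_lit 4])) (TL.node (TL.leaf [nat_lit 3, nat_lit 6]) (TL.leaf [nat_lit 5, nat_lit 0])))
noncomputable def cW (i : ℕ) : List ℕ := TL.get cW_t i
def cE (i : ℕ) : ℕ := Nat.land (Nat.shiftRight (nat_lit 168) (Nat.mul (nat_lit 2) i)) (nat_lit 3)
theorem core : Core q 5 7 8 := md.core (k := 2) loc (by decide) (H := cH) (H' := cI) (W := cW) (E := cE) (pk := 4) rfl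
  (upTo_beq (by decide +kernel))

end Cfsg.Agent.Ct.J3f
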